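import Cfsg.Agent.Lib.FischerLocal24.Chart
import Cfsg.Agent.Lib.FischerPresented.OutSigma
import Cfsg.Agent.Lib.Components.FStar

/-!
The centraliser in the derived group of a product of two commuting transpositions, type M(24).
-/

set_option autoImplicit false
set_option linter.style.haveILetI false

namespace Cfsg.Agent.FischerLocal24

open Subgroup
open Cfsg.Agent.CosetCert Cfsg.Agent.FischerPresented
open Cfsg.Agent.Fischer.Factor (Nb TwinFree noRel_four cross_commute prod_sq)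

local notation "GG" => Setup.G CosetData.Fi23A.setup

variable {G : Type*} [Group G] [Finite G] {D : Set G}

/-- An element fixing the product of two commuting transpositions fixes or exchanges them. -/
theorem fix_or_swap (hD : Cfsg.IsThreeTranspositionGroup D) (hfree : TwinFree D) {d₁ d₂ x : G}
    (h₁ : d₁ ∈ D) (h₂ : d₂ ∈ D) (hne : d₁ ≠ d₂) (hc : Commute d₁ d₂)
    (hx : x * (d₁ * d₂) * x⁻¹ = d₁ * d₂) :
    (x * d₁ * x⁻¹ = d₁ ∧ x * d₂ * x⁻¹ = d₂) ∨ (x * d₁ * x⁻¹ = d₂ ∧ x * d₂ * x⁻¹ = d₁) := by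
  have h4 := noRel_four hD.1 hfree
  have e : x * d₁ * x⁻¹ * (x * d₂ * x⁻¹) = d₁ * d₂ := by rw [← hx]; group
  generalize hu : x * d₁ * x⁻¹ = u at e
  generalize hv : x * d₂ * x⁻¹ = v at e
  have hu' : u ∈ D := hu ▸ hD.2.1 x d₁ h₁
  have hv' : v ∈ D := hv ▸ hD.2.1 x d₂ h₂
  have hne' : u ≠ v := fun h => hne (mul_left_cancel (mul_right_cancel (hu.trans (h.trans hv.symm))))
  have hcuv : Commute u v := hu ▸ hv ▸ (Fischer.commute_conj_iff x d₁ d₂).2 hc
  by_cases a1 : u = d₁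
  · exact Or.inl ⟨a1, mul_left_cancel (a1 ▸ e)⟩
  by_cases a2 : v = d₂
  · exact absurd (mul_right_cancel (a2 ▸ e)) a1
  by_cases a3 : u = d₂
  · rw [a3, hc.eq] at e
    exact Or.inr ⟨a3, mul_left_cancel e⟩
  by_cases a4 : v = d₁
  · rw [a4, hc.eq] at e
    exact absurd (mul_right_cancel e) a3
  exfalso
  have hx := cross_commute hD.1 (l := [d₁, d₂]) (l' := [u, v]) (by simp)
    ⟨by simp [hne], by simp [h₁, h₂], by simp [hc, hc.symm]⟩
    ⟨by simp [hu', hv'], by simp [hcuv, hcuv.symm]⟩ (by simp [e])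
  refine h4 [d₁, d₂, u, v] ?_ rfl (by simp [h₁, h₂, hu', hv']) ?_ ?_
  · simp [hne, hne', Ne.symm a1, Ne.symm a2, Ne.symm a3, Ne.symm a4]
  · have c1 := hx u (by simp) d₁ (by simp)
    have c2 := hx u (by simp) d₂ (by simp)
    have c3 := hx v (by simp) d₁ (by simp)
    have c4 := hx v (by simp) d₂ (by simp)
    simp [hc, hc.symm, hcuv, hcuv.symm, c1, c1.symm, c2, c2.symm, c3, c3.symm, c4, c4.symm]
  · have hsq := prod_sq hD.1 [u, v] (by simp [hu', hv']) (by simp [hcuv, hcuv.symm])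
    simp only [List.prod_cons, List.prod_nil, mul_one] at hsq ⊢
    rw [← mul_assoc d₁, ← e]
    exact hsq

/-- An isomorphism onto the centraliser of two transpositions in the derived group. -/
theorem exists_frame (hD : Cfsg.IsThreeTranspositionGroup D) {d₁ d₂ : G} (h₁ : d₁ ∈ D) (h₂ : d₂ ∈ D)
    (hne : d₁ ≠ d₂) (hc : Commute d₁ d₂) (hout : ∀ e ∈ D, e ∉ commutator G)
    (hidx : (commutator G).index = 2) {Ψ : GG →* G} (hΨ : IsChart D d₁ Ψ) :
    ∃ (T : GG →* G), Function.Injective T ∧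
      Fi23.K.map T = commutator G ⊓ Subgroup.centralizer ({d₁, d₂} : Set G) ∧
      T Fi23.z = d₁ * d₂ ∧ (∀ x ∈ Fi23.D, T x * d₁ ∈ Nb D d₁) := by
  obtain ⟨hinj, hran, hmem⟩ := hΨ
  have hdd : d₁ * d₁ = 1 := Fischer.TSet.sq hD.1 h₁
  have hm : d₂ * d₁ ∈ Ψ.range := by
    rw [hran]
    refine ⟨?_, mul_mem (Subgroup.mem_centralizer_singleton_iff.2 hc.symm.eq)
      (Subgroup.mem_centralizer_singleton_iff.2 rfl)⟩
    simp [Subgroup.mul_mem_iff_of_index_two hidx, hout d₁ h₁, hout d₂ h₂]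
  obtain ⟨x₀, hx₀⟩ := hm
  have hx₀D : x₀ ∈ Fi23.D := (hmem x₀).2 (by rw [hx₀, mul_assoc, hdd, mul_one]; exact ⟨h₂, hne.symm, hc⟩)
  obtain ⟨g, rfl⟩ := Fi23.mem_D.1 hx₀D
  refine ⟨Ψ.comp (MulAut.conj g).toMonoidHom, hinj.comp (MulAut.conj g).injective, ?_, ?_, fun x hx => ?_⟩
  · rw [← Fi23.centralizer_z]
    ext y
    constructor
    · rintro ⟨k, hk, rfl⟩
      have hr := hran.le ⟨MulAut.conj g k, rfl⟩
      refine ⟨hr.1, Subgroup.mem_centralizer_iff.2 ?_⟩
      have c1 : Commute (Ψ (MulAut.conj g k)) d₁ := Subgroup.mem_centralizer_singleton_iff.1 hr.2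
      have c2 : Commute (Ψ (MulAut.conj g k)) (d₂ * d₁) := by
        rw [← hx₀]
        exact (((Fischer.commute_conj_iff g k Fi23.z).2
          (Subgroup.mem_centralizer_singleton_iff.1 hk : Commute k Fi23.z))).map Ψ
      rintro a (rfl | rfl)
      · exact c1.symm.eq
      · have := c2.mul_right c1
        rw [mul_assoc, hdd, mul_one] at this
        exact this.symm.eq
    · rintro ⟨hyL, hyC⟩
      have c1 : Commute y d₁ := (Subgroup.mem_centralizer_iff.1 hyC d₁ (Or.inl rfl)).symm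
      have c2 : Commute y d₂ := (Subgroup.mem_centralizer_iff.1 hyC d₂ (Or.inr rfl)).symm
      obtain ⟨w, rfl⟩ : y ∈ Ψ.range :=
        hran ▸ ⟨hyL, Subgroup.mem_centralizer_singleton_iff.2 c1.eq⟩
      refine ⟨g⁻¹ * w * g, Subgroup.mem_centralizer_singleton_iff.2 ?_, ?_⟩
      · have : Commute w (g * Fi23.z * g⁻¹) := by
          apply hinj
          rw [map_mul Ψ w, map_mul Ψ (g * Fi23.z * g⁻¹) w, hx₀]
          exact (c2.mul_right c1).eq
        have := (Fischer.commute_conj_iff g⁻¹ _ _).2 this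
        simpa [mul_assoc] using this.eq
      · simp [mul_assoc]
  · show Ψ (g * Fi23.z * g⁻¹) = _
    rw [hx₀, hc.eq]
  · exact (hmem _).1 (by
      obtain ⟨k, rfl⟩ := Fi23.mem_D.1 hx
      exact Fi23.mem_D.2 ⟨g * k, by simp [mul_assoc]⟩)

/-- An automorphism fixing a perfect group modulo its centre fixes it. -/
theorem commute_of_mod_center {H : Type*} [Group H] {K : Subgroup H} (hK : Group.IsPerfect ↥K) {s : H}
    (hs : ∀ k ∈ K, (s * k * s⁻¹ * k⁻¹) ∈ (Subgroup.center ↥K).map K.subtype) :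
    ∀ k ∈ K, Commute s k := by
  have hz : ∀ k ∈ K, ∀ m ∈ K, Commute (s * k * s⁻¹ * k⁻¹) m := by
    intro k hk m hm
    obtain ⟨z, hz, e⟩ := hs k hk
    rw [← e]
    exact (congrArg Subtype.val (Subgroup.mem_center_iff.1 hz ⟨m, hm⟩)).symm
  let f : ↥K →* ↥(Subgroup.center ↥K) :=
    { toFun := fun k => ⟨⟨s * k * s⁻¹ * (k : H)⁻¹, by
          obtain ⟨z, -, e⟩ := hs k k.2
          exact e ▸ z.2⟩, Subgroup.mem_center_iff.2 fun m => Subtype.ext (hz k k.2 m m.2).symm.eq⟩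
      map_one' := Subtype.ext (Subtype.ext (by simp))
      map_mul' := fun a b => Subtype.ext (Subtype.ext (by
        show s * ((a : H) * b) * s⁻¹ * ((a : H) * b)⁻¹ = (s * a * s⁻¹ * (a : H)⁻¹) * (s * b * s⁻¹ * (b : H)⁻¹)
        have hc := hz b b.2 (a : H)⁻¹ (inv_mem a.2)
        calc s * ((a : H) * b) * s⁻¹ * ((a : H) * b)⁻¹
            = s * a * s⁻¹ * ((s * b * s⁻¹ * (b : H)⁻¹) * (a : H)⁻¹) := by group
          _ = s * a * s⁻¹ * ((a : H)⁻¹ * (s * b * s⁻¹ * (b : H)⁻¹)) := by rw [hc.eq]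
          _ = _ := by group)) }
  intro k hk
  have h1 : commutator ↥K ≤ f.ker := by
    rw [commutator_def, Subgroup.commutator_le]
    intro a _ b _
    have hc : f a * f b = f b * f a :=
      Subtype.ext (Subgroup.mem_center_iff.1 (f b).2 (f a : ↥K))
    rw [MonoidHom.mem_ker, map_commutatorElement, commutatorElement_eq_one_iff_mul_comm]
    exact hc
  rw [hK.commutator_eq_top] at h1
  have h2 : s * k * s⁻¹ * k⁻¹ = 1 := congrArg (fun z : ↥(Subgroup.center ↥K) => ((z : ↥K) : H))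
    (MonoidHom.mem_ker.1 (h1 (Subgroup.mem_top ⟨k, hk⟩)))
  rw [mul_inv_eq_one] at h2
  exact mul_inv_eq_iff_eq_mul.1 h2

end Cfsg.Agent.FischerLocal24
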