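import Cfsg.Agent.Lib.FischerLocal24.Pair

/-!
The centraliser in the derived group of a product of two commuting transpositions: quasisimple layer
of index two, automorphism group of Fi22 on top.
-/

set_option autoImplicit false
set_option linter.style.haveILetI false

namespace Cfsg.Agent.FischerLocal24

open Subgroup
open Cfsg.Agent.CosetCert Cfsg.Agent.FischerPresented
open Cfsg.Agent.Fischer.Factor (Nb TwinFree)

local notation "GG" => Setup.G CosetData.Fi23A.setup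

variable {G : Type*} [Group G] [Finite G] {D : Set G}

theorem isPerfect_of_equiv {A B : Type*} [Group A] [Group B] (e : A ≃* B) (h : Group.IsPerfect A) :
    Group.IsPerfect B := ⟨by
  rw [← Subgroup.map_top_of_surjective e.toMonoidHom e.surjective, ← h.commutator_eq_top,
    commutator_def, commutator_def, Subgroup.map_commutator,
    Subgroup.map_top_of_surjective e.toMonoidHom e.surjective]⟩

theorem pair_main (hD : Cfsg.IsThreeTranspositionGroup D) (hprim : Cfsg.IsPrimitiveUnderConj D)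
    (hout : ∀ e ∈ D, e ∉ commutator G) (hidx : (commutator G).index = 2)
    {d₁ d₂ : G} (h₁ : d₁ ∈ D) (h₂ : d₂ ∈ D) (hne : d₁ ≠ d₂) (hc : Commute d₁ d₂) {Ψ : GG →* G}
    (hΨ : IsChart D d₁ Ψ) (K CL : Subgroup G)
    (hK : K = commutator G ⊓ Subgroup.centralizer ({d₁, d₂} : Set G))
    (hCL : CL = commutator G ⊓ Subgroup.centralizer ({d₁ * d₂} : Set G))
    [hn : ((Subgroup.zpowers (d₁ * d₂)).subgroupOf CL).Normal] :
    Cfsg.IsQuasisimple ↥K ∧ K = (Cfsg.generalizedFittingSubgroup ↥CL).map CL.subtype ∧ K ≤ CL ∧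
      (K.subgroupOf CL).index = 2 ∧ d₁ * d₂ ∈ K ∧
      Nonempty (↥CL ⧸ (Subgroup.zpowers (d₁ * d₂)).subgroupOf CL ≃* MulAut Cfsg.Spor.Fi22) := by
  classical
  have := Fi23.order_facts.1
  haveI : Finite Cfsg.Spor.Fi22 := Fi22.order_facts.1
  have hfree : TwinFree D := fun d v hd hs => Fischer.prim_sameComm_trivial hD hprim hd hs
  obtain ⟨T, hTinj, hTK, hTz, hTD⟩ := exists_frame hD h₁ h₂ hne hc hout hidx hΨ
  rw [← hK] at hTK
  set j := d₁ * d₂ with hj
  obtain ⟨E, hE⟩ : ∃ E : Fi23.K ≃* K, ∀ x : Fi23.K, (E x : G) = T x :=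
    ⟨(Subgroup.equivMapOfInjective Fi23.K T hTinj).trans (MulEquiv.subgroupCongr hTK), fun x => rfl⟩
  have hEc : (Subgroup.center Fi23.K).map E.toMonoidHom = Subgroup.center ↥K := by
    ext x
    obtain ⟨w, rfl⟩ := E.surjective x
    rw [Subgroup.mem_center_iff]
    constructor
    · rintro ⟨v, hv, e⟩ k
      rw [E.injective e] at hv
      obtain ⟨k, rfl⟩ := E.surjective k
      rw [← map_mul, ← map_mul, Subgroup.mem_center_iff.1 hv k]
    · intro h
      refine ⟨w, Subgroup.mem_center_iff.2 fun k => E.injective ?_, rfl⟩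
      rw [map_mul, map_mul, h (E k)]
  have hperf : Group.IsPerfect ↥K := isPerfect_of_equiv E FischerUnique23.quasisimple_K.1
  have hqs : Cfsg.IsQuasisimple ↥K :=
    ⟨hperf, (QuotientGroup.congr _ _ E hEc).isSimpleGroup_congr.1 FischerUnique23.quasisimple_K.2⟩
  have memK : ∀ x, x ∈ K ↔ x ∈ commutator G ∧ x * d₁ * x⁻¹ = d₁ ∧ x * d₂ * x⁻¹ = d₂ := fun x => by
    rw [hK, Subgroup.mem_inf, Subgroup.mem_centralizer_iff]
    refine ⟨fun h => ⟨h.1, by rw [← h.2 _ (Or.inl rfl), mul_inv_cancel_right], by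
      rw [← h.2 _ (Or.inr rfl), mul_inv_cancel_right]⟩, ?_⟩
    rintro ⟨hL, e1, e2⟩
    refine ⟨hL, ?_⟩
    rintro y (rfl | rfl)
    · exact (mul_inv_eq_iff_eq_mul.1 e1).symm
    · exact (mul_inv_eq_iff_eq_mul.1 e2).symm
  have memC : ∀ x, x ∈ CL ↔ x ∈ commutator G ∧ x * (d₁ * d₂) * x⁻¹ = d₁ * d₂ := fun x => by
    rw [hCL, Subgroup.mem_inf, Subgroup.mem_centralizer_singleton_iff, mul_inv_eq_iff_eq_mul]
  have hKC : K ≤ CL := fun x hx => (memC x).2 ⟨((memK x).1 hx).1, by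
    have h := ((memK x).1 hx).2
    calc x * (d₁ * d₂) * x⁻¹ = (x * d₁ * x⁻¹) * (x * d₂ * x⁻¹) := by group
      _ = d₁ * d₂ := by rw [h.1, h.2]⟩
  have hzK : Fi23.z ∈ Fi23.K := Fi23.centralizer_z.le (Subgroup.mem_centralizer_singleton_iff.2 rfl)
  have hjK : j ∈ K := hTK ▸ ⟨Fi23.z, hzK, hTz⟩
  -- the swap
  obtain ⟨s₀, hs0a, hs0b⟩ : ∃ s : G, s * d₁ * s⁻¹ = d₂ ∧ s * d₂ * s⁻¹ = d₁ := by
    obtain ⟨g, hg⟩ : ∃ g, g * d₁ * g⁻¹ = d₂ := hprim.1 d₁ h₁ d₂ h₂
    obtain ⟨h, hh, hh2⟩ := Fischer.prim_trans_commuting hD hprim ⟨_, h₁, _, h₂, hne, hc⟩ h₂ (g * d₂ * g⁻¹)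
      ⟨hD.2.1 g d₂ h₂, fun e => hne (mul_left_cancel (mul_right_cancel (hg.trans e.symm))),
        hg ▸ (Fischer.commute_conj_iff g d₁ d₂).2 hc⟩ d₁ ⟨h₁, hne, hc.symm⟩
    have hhd : h * d₂ * h⁻¹ = d₂ := by
      refine mul_inv_eq_iff_eq_mul.2 (Subgroup.mem_centralizer_singleton_iff.1 ((Subgroup.closure_le _).2
        (fun w hw => ?_) hh))
      exact Subgroup.mem_centralizer_singleton_iff.2 hw.2.2.symm.eq
    refine ⟨h * g, ?_, ?_⟩
    · rw [show h * g * d₁ * (h * g)⁻¹ = h * (g * d₁ * g⁻¹) * h⁻¹ by group, hg, hhd]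
    · rw [show h * g * d₂ * (h * g)⁻¹ = h * (g * d₂ * g⁻¹) * h⁻¹ by group, hh2]
  have f11 : d₁ * d₁ * d₁⁻¹ = d₁ := by group
  have f12 : d₁ * d₂ * d₁⁻¹ = d₂ := by rw [hc.eq]; group
  obtain ⟨s, hsL, hsa, hsb⟩ : ∃ s ∈ commutator G, s * d₁ * s⁻¹ = d₂ ∧ s * d₂ * s⁻¹ = d₁ := by
    by_cases h : s₀ ∈ commutator G
    · exact ⟨s₀, h, hs0a, hs0b⟩
    · refine ⟨s₀ * d₁, ?_, ?_, ?_⟩
      · simp [Subgroup.mul_mem_iff_of_index_two hidx, h, hout d₁ h₁]
      · rw [show s₀ * d₁ * d₁ * (s₀ * d₁)⁻¹ = s₀ * (d₁ * d₁ * d₁⁻¹) * s₀⁻¹ by group, f11, hs0a]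
      · rw [show s₀ * d₁ * d₂ * (s₀ * d₁)⁻¹ = s₀ * (d₁ * d₂ * d₁⁻¹) * s₀⁻¹ by group, f12, hs0b]
  have hsC : s ∈ CL := (memC s).2 ⟨hsL, by
    calc s * (d₁ * d₂) * s⁻¹ = (s * d₁ * s⁻¹) * (s * d₂ * s⁻¹) := by group
      _ = d₁ * d₂ := by rw [hsa, hsb, hc.eq]⟩
  have hsK : s ∉ K := fun h => hne (((memK s).1 h).2.1.symm.trans hsa)
  have hswap : ∀ x ∈ CL, x ∉ K → x * d₁ * x⁻¹ = d₂ ∧ x * d₂ * x⁻¹ = d₁ := by
    intro x hx hxK
    obtain ⟨hxL, hxe⟩ := (memC x).1 hx
    rcases fix_or_swap hD hfree h₁ h₂ hne hc hxe with h | h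
    · exact absurd ((memK x).2 ⟨hxL, h⟩) hxK
    · exact h
  have hidxK : (K.subgroupOf CL).index = 2 := by
    refine Subgroup.index_eq_two_iff.2 ⟨⟨s, hsC⟩, fun b => ?_⟩
    simp only [Subgroup.mem_subgroupOf, Subgroup.coe_mul]
    by_cases hb : (b : G) ∈ K
    · exact Or.inr ⟨hb, fun h => hsK ((Subgroup.mul_mem_cancel_left K hb).1 h)⟩
    · refine Or.inl ⟨?_, hb⟩
      obtain ⟨e1, e2⟩ := hswap b b.2 hb
      refine (memK _).2 ⟨mul_mem ((memC b).1 b.2).1 hsL, ?_, ?_⟩
      · rw [show (b : G) * s * d₁ * ((b : G) * s)⁻¹ = (b : G) * (s * d₁ * s⁻¹) * (b : G)⁻¹ by group, hsa, e2]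
      · rw [show (b : G) * s * d₂ * ((b : G) * s)⁻¹ = (b : G) * (s * d₂ * s⁻¹) * (b : G)⁻¹ by group, hsb, e1]
  -- elements centralising `K` lie in it
  have hcentr : ∀ x ∈ CL, (∀ k ∈ K, Commute x k) → x ∈ K := by
    intro x hx hxk
    by_contra hxK
    obtain ⟨e1, e2⟩ := hswap x hx hxK
    set w := Setup.gen CosetData.Fi23A.setup 0 with hw
    obtain ⟨hwD, hwz, cwz⟩ := FischerUnique23.gen_nb 0 (by norm_num)
    set e := T w * d₁ with he
    obtain ⟨heD, hed, hce⟩ : e ∈ D ∧ e ≠ d₁ ∧ Commute d₁ e := hTD w hwD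
    have hwK : w ∈ Fi23.K :=
      Fi23.centralizer_z.le (Subgroup.mem_centralizer_singleton_iff.2 cwz.symm.eq)
    have hTw : T w ∈ K := hTK ▸ ⟨w, hwK, rfl⟩
    have cK := (memK _).1 hTw
    have ce2 : Commute e d₂ := by
      have h1 : Commute (T w) d₂ := mul_inv_eq_iff_eq_mul.1 cK.2.2
      exact h1.mul_left hc
    have hdd : d₁ * d₁ = 1 := Fischer.TSet.sq hD.1 h₁
    have hd22 : d₂ * d₂ = 1 := Fischer.TSet.sq hD.1 h₂
    have hee : e * e = 1 := Fischer.TSet.sq hD.1 heD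
    set f := x * e * x⁻¹ with hf
    have hfD : f ∈ D := hD.2.1 x e heD
    have hfe : f = e * d₁ * d₂ := by
      have hTe : e * d₁ = T w := by rw [he, mul_assoc, hdd, mul_one]
      have h1 : x * (e * d₁) * x⁻¹ = e * d₁ := by
        rw [hTe]; exact mul_inv_eq_iff_eq_mul.2 (hxk _ hTw).eq
      rw [show x * (e * d₁) * x⁻¹ = f * (x * d₁ * x⁻¹) by rw [hf]; group, e1] at h1
      calc f = f * d₂ * d₂ := by rw [mul_assoc, hd22, mul_one]
        _ = e * d₁ * d₂ := by rw [h1]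
    have cfe : Commute f e := by rw [hfe]; exact ((Commute.refl e).mul_left hce).mul_left ce2.symm
    have cf1 : Commute f d₁ := by rw [hfe]; exact ((hce.symm).mul_left (Commute.refl d₁)).mul_left hc.symm
    have cf2 : Commute f d₂ := by rw [hfe]; exact (ce2.mul_left hc).mul_left (Commute.refl d₂)
    have ne2 : e ≠ d₂ := by
      intro h
      apply hwz
      apply hTinj
      rw [hTz]
      calc T w = e * d₁ := by rw [he, mul_assoc, hdd, mul_one]
        _ = d₁ * d₂ := by rw [h, hc.eq]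
    have n1 : f ≠ e := by
      intro h
      rw [hfe, mul_assoc, mul_eq_left] at h
      exact hne ((eq_inv_of_mul_eq_one_left h).trans (Fischer.TSet.inv hD.1 h₂))
    have n2 : f ≠ d₁ := by
      intro h
      rw [hfe, mul_assoc, hc.eq, ← mul_assoc, mul_eq_right] at h
      exact ne2 ((eq_inv_of_mul_eq_one_left h).trans (Fischer.TSet.inv hD.1 h₂))
    have n3 : f ≠ d₂ := by
      intro h
      rw [hfe, mul_eq_right] at h
      exact hed ((eq_inv_of_mul_eq_one_left h).trans (Fischer.TSet.inv hD.1 h₁))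
    refine Fischer.Factor.noRel_four hD.1 hfree [f, e, d₁, d₂] ?_ rfl (by simp [hfD, heD, h₁, h₂]) ?_ ?_
    · simp [n1, n2, n3, hed, ne2, hne]
    · simp [cfe, cfe.symm, cf1, cf1.symm, cf2, cf2.symm, hce, hce.symm, ce2, ce2.symm, hc, hc.symm]
    · have hcc : Commute e (d₁ * d₂) := hce.symm.mul_right ce2
      simp only [List.prod_cons, List.prod_nil, mul_one]
      calc f * (e * (d₁ * d₂)) = (e * (d₁ * d₂)) * (e * (d₁ * d₂)) := by rw [hfe, mul_assoc e]
        _ = (e * e) * ((d₁ * d₂) * (d₁ * d₂)) := hcc.symm.mul_mul_mul_comm _ _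
        _ = (e * e) * ((d₁ * d₁) * (d₂ * d₂)) := by rw [hc.symm.mul_mul_mul_comm d₁ d₂]
        _ = 1 := by rw [hee, hdd, hd22, one_mul, one_mul]
  -- the generalised Fitting subgroup
  set K' := K.subgroupOf CL with hK'
  haveI hK'n : K'.Normal := Subgroup.normal_of_index_eq_two hidxK
  have hcomp : Cfsg.IsComponent K' := ⟨Subgroup.Normal.isSubnormal hK'n,
    isPerfect_of_equiv (Subgroup.subgroupOfEquivOfLe hKC).symm hperf, by
      have e := (Subgroup.subgroupOfEquivOfLe hKC).symm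
      have hcc : (Subgroup.center ↥K).map e.toMonoidHom = Subgroup.center ↥K' := by
        ext x
        obtain ⟨w, rfl⟩ := e.surjective x
        rw [Subgroup.mem_center_iff]
        constructor
        · rintro ⟨v, hv, ev⟩ k
          rw [e.injective ev] at hv
          obtain ⟨k, rfl⟩ := e.surjective k
          rw [← map_mul, ← map_mul, Subgroup.mem_center_iff.1 hv k]
        · intro h
          refine ⟨w, Subgroup.mem_center_iff.2 fun k => e.injective ?_, rfl⟩
          rw [map_mul, map_mul, h (e k)]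
      exact (QuotientGroup.congr _ _ e hcc).isSimpleGroup_congr.1 hqs.2⟩
  have hlay : Cfsg.layer ↥CL = K' := by
    refine le_antisymm (Components.layer_le_iff.2 fun L hL => ?_) (Components.component_le_layer hcomp)
    rw [← Components.component_commutator_eq hL, Subgroup.commutator_le]
    intro a _ b _
    rw [commutatorElement_def]
    simp only [Subgroup.mul_mem_iff_of_index_two hidxK, Subgroup.inv_mem_iff]
    tauto
  have hfit : Cfsg.fittingSubgroup ↥CL ≤ K' := by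
    intro x hx
    refine hcentr x x.2 fun k hk => ?_
    have h := Subgroup.mem_centralizer_iff.1 (Components.fitting_le_centralizer_layer hx) ⟨k, hKC hk⟩
      (by rw [hlay]; exact hk)
    exact (congrArg Subtype.val h).symm
  have hF : K = (Cfsg.generalizedFittingSubgroup ↥CL).map CL.subtype := by
    rw [Cfsg.generalizedFittingSubgroup, hlay, sup_eq_left.2 hfit, hK', Subgroup.subgroupOf_map_subtype,
      inf_eq_left.2 hKC]
  refine ⟨hqs, hF, hKC, hidxK, hjK, ?_⟩
  -- the action on `K` modulo its centre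
  set Zs := (Subgroup.zpowers j).subgroupOf CL with hZs
  have hcen : ∀ x : G, x ∈ (Subgroup.center ↥K).map K.subtype ↔ x ∈ Subgroup.zpowers j := by
    intro x
    rw [← hEc, FischerUnique23.center_K_eq]
    constructor
    · rintro ⟨_, ⟨w, hw, rfl⟩, rfl⟩
      obtain ⟨n, hn⟩ := Subgroup.mem_zpowers_iff.1 (Subgroup.mem_subgroupOf.1 hw)
      refine Subgroup.mem_zpowers_iff.2 ⟨n, ?_⟩
      show j ^ n = (E w : G)
      rw [hE, ← hn, map_zpow, hTz]
    · intro hx
      obtain ⟨n, rfl⟩ := Subgroup.mem_zpowers_iff.1 hx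
      refine ⟨E (⟨Fi23.z, hzK⟩ ^ n), ⟨_, Subgroup.mem_subgroupOf.2
        (Subgroup.mem_zpowers_iff.2 ⟨n, by simp⟩), rfl⟩, ?_⟩
      show (E (⟨Fi23.z, hzK⟩ ^ n) : G) = _
      rw [hE, Subgroup.coe_zpow, map_zpow, hTz]
  have hjC : ∀ x ∈ CL, x * j * x⁻¹ = j := fun x hx => ((memC x).1 hx).2
  set M := K' with hM
  set ZM : Subgroup ↥M := Zs.subgroupOf M with hZM
  haveI : ZM.Normal := inferInstance
  obtain ⟨ι⟩ := Fi23.nonempty_iso
  obtain ⟨θ⟩ : Nonempty (↥M ⧸ ZM ≃* Cfsg.Spor.Fi22) := by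
    have e : Fi23.K ≃* ↥M := E.trans (Subgroup.subgroupOfEquivOfLe hKC).symm
    have hval : ∀ w : Fi23.K, ((E.trans (Subgroup.subgroupOfEquivOfLe hKC).symm w : ↥CL) : G) = T w :=
      fun w => hE w
    have hm : Fi23.Z.map (E.trans (Subgroup.subgroupOfEquivOfLe hKC).symm).toMonoidHom = ZM := by
      rw [← Fi23.center_K, FischerUnique23.center_K_eq]
      ext x
      obtain ⟨w, rfl⟩ := (E.trans (Subgroup.subgroupOfEquivOfLe hKC).symm).surjective x
      rw [Subgroup.mem_map_equiv, MulEquiv.symm_apply_apply, Subgroup.mem_subgroupOf, hZM, Subgroup.mem_subgroupOf,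
        hZs, Subgroup.mem_subgroupOf, hval, Subgroup.mem_zpowers_iff, Subgroup.mem_zpowers_iff]
      exact exists_congr fun n => by rw [← hTz, ← map_zpow, hTinj.eq_iff]
    exact ⟨(QuotientGroup.congr Fi23.Z ZM (E.trans (Subgroup.subgroupOfEquivOfLe hKC).symm) hm).symm.trans ι.symm⟩
  let act : ↥CL →* MulAut (↥M ⧸ ZM) :=
    { toFun := fun c => QuotientGroup.congr ZM ZM (MulAut.conjNormal c) (by
        ext x
        rw [Subgroup.mem_map]
        constructor
        · rintro ⟨y, hy, rfl⟩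
          rw [hZM, Subgroup.mem_subgroupOf] at hy ⊢
          exact hn.conj_mem _ hy c
        · intro h
          refine ⟨MulAut.conjNormal c⁻¹ x, ?_, ?_⟩
          · rw [hZM, Subgroup.mem_subgroupOf] at h ⊢
            rw [MulAut.conjNormal_apply]
            exact hn.conj_mem _ h c⁻¹
          · show MulAut.conjNormal c (MulAut.conjNormal c⁻¹ x) = x
            rw [← MulAut.mul_apply, ← map_mul, mul_inv_cancel, map_one, MulAut.one_apply])
      map_one' := by
        ext x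
        obtain ⟨x, rfl⟩ := QuotientGroup.mk'_surjective ZM x
        simp [QuotientGroup.congr_mk]
      map_mul' := fun a b => by
        ext x
        obtain ⟨x, rfl⟩ := QuotientGroup.mk'_surjective ZM x
        simp [QuotientGroup.congr_mk] }
  have hker : act.ker = Zs := by
    ext c
    rw [MonoidHom.mem_ker]
    constructor
    · intro h
      have hmod : ∀ k ∈ K, ((c : G) * k * (c : G)⁻¹ * k⁻¹) ∈ (Subgroup.center ↥K).map K.subtype := by
        intro k hk
        have hx := congrArg (fun φ : MulAut (↥M ⧸ ZM) => φ (QuotientGroup.mk ⟨⟨k⁻¹, hKC (inv_mem hk)⟩, inv_mem hk⟩)) h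
        change QuotientGroup.mk (MulAut.conjNormal c _) = QuotientGroup.mk _ at hx
        rw [QuotientGroup.eq] at hx
        rw [hcen]
        have := Subgroup.mem_subgroupOf.1 (Subgroup.mem_subgroupOf.1 hx)
        simpa [mul_assoc] using this
      have hcK := commute_of_mod_center hperf hmod
      have hcin : (c : G) ∈ K := hcentr _ c.2 hcK
      rw [hZs, Subgroup.mem_subgroupOf, ← hcen]
      exact ⟨⟨c, hcin⟩, Subgroup.mem_center_iff.2 fun k => Subtype.ext (hcK k k.2).symm.eq, rfl⟩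
    · intro hc'
      ext x
      obtain ⟨x, rfl⟩ := QuotientGroup.mk'_surjective ZM x
      show QuotientGroup.mk (MulAut.conjNormal c x) = QuotientGroup.mk x
      congr 1
      apply Subtype.ext
      apply Subtype.ext
      rw [MulAut.conjNormal_apply]
      simp only [Subgroup.coe_mul, Subgroup.coe_inv]
      rw [hZs, Subgroup.mem_subgroupOf, ← hcen] at hc'
      obtain ⟨z, hz, e⟩ := hc'
      rw [← e, mul_inv_eq_iff_eq_mul]
      exact (congrArg Subtype.val (Subgroup.mem_center_iff.1 hz ⟨((x : ↥CL) : G), x.2⟩)).symm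
  let act2 : ↥CL →* MulAut Cfsg.Spor.Fi22 := (MulAut.congr θ).toMonoidHom.comp act
  have hker2 : act2.ker = Zs := by
    rw [← hker]
    ext x
    rw [MonoidHom.mem_ker, MonoidHom.mem_ker]
    exact map_eq_one_iff _ (MulAut.congr θ).injective
  have hcard : Nat.card (↥CL ⧸ Zs) = 2 * 64561751654400 := by
    have hjo : Nat.card Zs = 2 := by
      rw [hZs, Nat.card_congr (Subgroup.subgroupOfEquivOfLe (Subgroup.zpowers_le.2 (hKC hjK))).toEquiv,
        Nat.card_zpowers, ← hTz, orderOf_injective T hTinj, Fi23.orderOf_z]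
    have h1 := Subgroup.card_eq_card_quotient_mul_card_subgroup Zs
    have h2 := K'.card_mul_index
    rw [hidxK, Nat.card_congr (Subgroup.subgroupOfEquivOfLe hKC).toEquiv, ← Nat.card_congr E.toEquiv,
      Fi23.card_K] at h2
    rw [hjo] at h1
    omega
  have hinj2 : Function.Injective (QuotientGroup.lift Zs act2 hker2.ge) := by
    rw [← MonoidHom.ker_eq_bot_iff, eq_bot_iff]
    intro q hq
    obtain ⟨q, rfl⟩ := QuotientGroup.mk'_surjective Zs q
    rw [MonoidHom.mem_ker] at hq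
    change act2 q = 1 at hq
    rw [← MonoidHom.mem_ker, hker2] at hq
    exact Subgroup.mem_bot.2 ((QuotientGroup.eq_one_iff q).2 hq)
  exact ⟨MulEquiv.ofBijective _ (hinj2.bijective_of_nat_card_le
    (hcard.symm ▸ Out22.card_aut_le))⟩

end Cfsg.Agent.FischerLocal24
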