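import Cfsg.Agent.Lib.FischerLocal24.Pair
import Cfsg.Agent.Lib.FischerUnique23.Pair

/-!
Joint centralisers of three commuting transpositions in groups of type M(24).
-/

set_option autoImplicit false
set_option linter.style.haveILetI false
set_option maxRecDepth 100000

namespace Cfsg.Agent.FischerLocal24

open Subgroup
open Cfsg.Agent.CosetCert Cfsg.Agent.FischerPresented
open Cfsg.Agent.Fischer.Factor (Nb TwinFree)

local notation "GG" => Setup.G CosetData.Fi23A.setup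
local notation "a₀" => Setup.gen CosetData.Fi23A.setup 0

variable {G : Type*} [Group G] [Finite G] {D : Set G}

omit [Finite G] in
/-- The preimage of a neighbour under a chart. -/
theorem exists_pre (hD : Cfsg.IsThreeTranspositionGroup D) (hout : ∀ e ∈ D, e ∉ commutator G)
    (hidx : (commutator G).index = 2) {d y : G} (hd : d ∈ D) {Ψ : GG →* G} (hΨ : IsChart D d Ψ)
    (hy : y ∈ Nb D d) : ∃ x ∈ Fi23.D, Ψ x = y * d := by
  have hdd : d * d = 1 := Fischer.TSet.sq hD.1 hd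
  have hm : y * d ∈ Ψ.range := by
    rw [hΨ.2.1]
    refine ⟨?_, mul_mem (Subgroup.mem_centralizer_singleton_iff.2 hy.2.2.symm.eq)
      (Subgroup.mem_centralizer_singleton_iff.2 rfl)⟩
    simp [Subgroup.mul_mem_iff_of_index_two hidx, hout d hd, hout y hy.1]
  obtain ⟨x, hx⟩ := hm
  exact ⟨x, (hΨ.2.2 x).2 (by rw [hx, mul_assoc, hdd, mul_one]; exact hy), hx⟩

omit [Finite G] in
theorem pre_nb (hD : Cfsg.IsThreeTranspositionGroup D) {d u v : G} (hd : d ∈ D) {Ψ : GG →* G}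
    (hΨ : IsChart D d Ψ) {x y : GG} (hx : Ψ x = u * d) (hy : Ψ y = v * d) (hyD : y ∈ Fi23.D)
    (hne : u ≠ v) (hu : Commute d u) (hv : Commute d v) (hc : Commute u v) : y ∈ Nb Fi23.D x := by
  refine ⟨hyD, fun h => hne (mul_right_cancel (hx.symm.trans (h ▸ hy))), ?_⟩
  apply hΨ.1
  rw [map_mul, map_mul, hx, hy]
  exact ((hc.mul_right hu.symm).mul_left (hv.mul_right (Commute.refl d))).eq

/-- Two transpositions commuting with a commuting pair are conjugate under its centraliser in `L`. -/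
theorem exists_move (hp : Cfsg.IsPrimitiveUnderConj Fi23.D) (hD : Cfsg.IsThreeTranspositionGroup D)
    (hout : ∀ e ∈ D, e ∉ commutator G) (hidx : (commutator G).index = 2) {a b c c' : G} (ha : a ∈ D)
    {Ψ : GG →* G} (hΨ : IsChart D a Ψ) (hb : b ∈ Nb D a) (hc : c ∈ Nb D a) (hc' : c' ∈ Nb D a)
    (hbc : c ≠ b) (hbc' : c' ≠ b) (cbc : Commute b c) (cbc' : Commute b c') :
    ∃ k : GG, Commute (Ψ k) a ∧ Commute (Ψ k) b ∧ Ψ k ∈ commutator G ∧ Ψ k * c * (Ψ k)⁻¹ = c' := by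
  have := Fi23.order_facts.1
  obtain ⟨x, hxD, hx⟩ := exists_pre hD hout hidx ha hΨ hb
  obtain ⟨y, hyD, hy⟩ := exists_pre hD hout hidx ha hΨ hc
  obtain ⟨y', hyD', hy'⟩ := exists_pre hD hout hidx ha hΨ hc'
  have hn : y ∈ Nb Fi23.D x := pre_nb hD ha hΨ hx hy hyD hbc.symm hb.2.2 hc.2.2 cbc
  have hn' : y' ∈ Nb Fi23.D x := pre_nb hD ha hΨ hx hy' hyD' hbc'.symm hb.2.2 hc'.2.2 cbc'
  obtain ⟨k, hk, hke⟩ := Fischer.prim_trans_commuting FischerUnique23.D23_group hp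
    ⟨x, hxD, y, hyD, hn.2.1.symm, hn.2.2⟩ hxD y hn y' hn'
  have hr := hΨ.2.1.le ⟨k, rfl⟩
  have h1 : Commute (Ψ k) a := Subgroup.mem_centralizer_singleton_iff.1 hr.2
  have hkx : Commute k x := (Fischer.Factor.commute_of_mem_closure_nb hk).symm
  have h2 : Commute (Ψ k) (b * a) := hx ▸ hkx.map Ψ
  have haa : a * a = 1 := Fischer.TSet.sq hD.1 ha
  have h2' : Commute (Ψ k) b := by
    have := h2.mul_right h1
    rwa [mul_assoc, haa, mul_one] at this
  refine ⟨k, h1, h2', hr.1, ?_⟩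
  have h3 : Ψ k * (c * a) * (Ψ k)⁻¹ = c' * a := by rw [← hy, ← hy', ← hke]; simp
  have h4 : Ψ k * (c * a) * (Ψ k)⁻¹ = Ψ k * c * (Ψ k)⁻¹ * (Ψ k * a * (Ψ k)⁻¹) := by group
  rw [h4, Fischer.conj_eq_self_of_commute h1] at h3
  exact mul_right_cancel h3

/-- An element of `L` exchanging two of three commuting transpositions and fixing the third. -/
theorem exists_swap (hp : Cfsg.IsPrimitiveUnderConj Fi23.D) (hD : Cfsg.IsThreeTranspositionGroup D)
    (hprim : Cfsg.IsPrimitiveUnderConj D) (hout : ∀ e ∈ D, e ∉ commutator G)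
    (hidx : (commutator G).index = 2) {a b c : G} (ha : a ∈ D) (hb : b ∈ D) (hc : c ∈ D) (hab : a ≠ b)
    (hac : a ≠ c) (hbc : b ≠ c) (cab : Commute a b) (cac : Commute a c) (cbc : Commute b c)
    {Ψ : GG →* G} (hΨ : IsChart D a Ψ) :
    ∃ s ∈ commutator G, s * a * s⁻¹ = b ∧ s * b * s⁻¹ = a ∧ s * c * s⁻¹ = c := by
  obtain ⟨g, hg⟩ : ∃ g, g * a * g⁻¹ = b := hprim.1 a ha b hb
  obtain ⟨h, hh, hh2⟩ := Fischer.prim_trans_commuting hD hprim ⟨_, ha, _, hb, hab, cab⟩ hb (g * b * g⁻¹)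
    ⟨hD.2.1 g b hb, fun e => hab (mul_left_cancel (mul_right_cancel (hg.trans e.symm))),
      hg ▸ (Fischer.commute_conj_iff g a b).2 cab⟩ a ⟨ha, hab, cab.symm⟩
  have hhd : Commute h b := (Fischer.Factor.commute_of_mem_closure_nb hh).symm
  obtain ⟨s, hs, hsa, hsb⟩ : ∃ s ∈ commutator G, s * a * s⁻¹ = b ∧ s * b * s⁻¹ = a := by
    have e1 : h * g * a * (h * g)⁻¹ = b := by
      rw [show h * g * a * (h * g)⁻¹ = h * (g * a * g⁻¹) * h⁻¹ by group, hg,
        Fischer.conj_eq_self_of_commute hhd]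
    have e2 : h * g * b * (h * g)⁻¹ = a := by
      rw [show h * g * b * (h * g)⁻¹ = h * (g * b * g⁻¹) * h⁻¹ by group, hh2]
    by_cases hL : h * g ∈ commutator G
    · exact ⟨_, hL, e1, e2⟩
    · refine ⟨h * g * a, ?_, ?_, ?_⟩
      · simp [Subgroup.mul_mem_iff_of_index_two hidx, hout a ha] at hL ⊢; tauto
      · rw [show h * g * a * a * (h * g * a)⁻¹ = h * g * (a * a * a⁻¹) * (h * g)⁻¹ by group,
          Fischer.conj_eq_self_of_commute (Commute.refl a), e1]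
      · rw [show h * g * a * b * (h * g * a)⁻¹ = h * g * (a * b * a⁻¹) * (h * g)⁻¹ by group,
          Fischer.conj_eq_self_of_commute cab, e2]
  have hc'a : s * c * s⁻¹ ∈ Nb D a := hsb ▸ Fischer.Factor.nb_conj hD s ⟨hc, hbc.symm, cbc⟩
  obtain ⟨k, k1, k2, k3, k4⟩ := exists_move hp hD hout hidx ha hΨ ⟨hb, hab.symm, cab⟩ hc'a ⟨hc, hac.symm, cac⟩
    (fun e => hac (mul_left_cancel (mul_right_cancel (hsa.trans e.symm)))) hbc.symm
    (hsa ▸ (Fischer.commute_conj_iff s a c).2 cac) cbc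
  refine ⟨Ψ k * s, mul_mem k3 hs, ?_, ?_, ?_⟩
  · rw [show Ψ k * s * a * (Ψ k * s)⁻¹ = Ψ k * (s * a * s⁻¹) * (Ψ k)⁻¹ by group, hsa,
      Fischer.conj_eq_self_of_commute k2]
  · rw [show Ψ k * s * b * (Ψ k * s)⁻¹ = Ψ k * (s * b * s⁻¹) * (Ψ k)⁻¹ by group, hsb,
      Fischer.conj_eq_self_of_commute k1]
  · rw [show Ψ k * s * c * (Ψ k * s)⁻¹ = Ψ k * (s * c * s⁻¹) * (Ψ k)⁻¹ by group, k4]

/-- The joint centraliser of three commuting transpositions in `L` as an image of that of the model pair. -/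
theorem exists_frame_three (hp : Cfsg.IsPrimitiveUnderConj Fi23.D) (hD : Cfsg.IsThreeTranspositionGroup D)
    (hout : ∀ e ∈ D, e ∉ commutator G) (hidx : (commutator G).index = 2) {d₁ d₂ d₃ : G} (h₁ : d₁ ∈ D)
    (h₂ : d₂ ∈ Nb D d₁) (h₃ : d₃ ∈ Nb D d₁) (h23 : d₂ ≠ d₃) (c23 : Commute d₂ d₃) {Ψ : GG →* G}
    (hΨ : IsChart D d₁ Ψ) :
    ∃ T : GG →* G, Function.Injective T ∧ T Fi23.z = d₁ * d₂ ∧ T a₀ = d₁ * d₃ ∧
      FischerUnique23.K0.map T = commutator G ⊓ Subgroup.centralizer ({d₁, d₂, d₃} : Set G) := by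
  have := Fi23.order_facts.1
  obtain ⟨x, hxD, hx⟩ := exists_pre hD hout hidx h₁ hΨ h₂
  obtain ⟨y, hyD, hy⟩ := exists_pre hD hout hidx h₁ hΨ h₃
  obtain ⟨g, rfl⟩ := Fi23.mem_D.1 hxD
  have hn : y ∈ Nb Fi23.D (g * Fi23.z * g⁻¹) := pre_nb hD h₁ hΨ hx hy hyD h23 h₂.2.2 h₃.2.2 c23
  obtain ⟨k, hk, hke⟩ := Fischer.prim_trans_commuting FischerUnique23.D23_group hp
    ⟨_, hxD, y, hyD, hn.2.1.symm, hn.2.2⟩ hxD (g * a₀ * g⁻¹)
    (Fischer.Factor.nb_conj FischerUnique23.D23_group g (FischerUnique23.gen_nb 0 (by norm_num))) y hn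
  have hkx : Commute k (g * Fi23.z * g⁻¹) := (Fischer.Factor.commute_of_mem_closure_nb hk).symm
  obtain ⟨w, hw⟩ : ∃ w, w = k * g := ⟨_, rfl⟩
  have ez : w * Fi23.z * w⁻¹ = g * Fi23.z * g⁻¹ := by
    rw [hw, show k * g * Fi23.z * (k * g)⁻¹ = k * (g * Fi23.z * g⁻¹) * k⁻¹ by group,
      Fischer.conj_eq_self_of_commute hkx]
  have ea : w * a₀ * w⁻¹ = y := by
    rw [hw, show k * g * a₀ * (k * g)⁻¹ = k * (g * a₀ * g⁻¹) * k⁻¹ by group, hke]
  have hTz : Ψ (w * Fi23.z * w⁻¹) = d₁ * d₂ := by rw [ez, hx, h₂.2.2.eq]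
  have hTa : Ψ (w * a₀ * w⁻¹) = d₁ * d₃ := by rw [ea, hy, h₃.2.2.eq]
  have hdd : d₁ * d₁ = 1 := Fischer.TSet.sq hD.1 h₁
  refine ⟨Ψ.comp (MulAut.conj w).toMonoidHom, hΨ.1.comp (MulAut.conj w).injective, hTz, hTa, ?_⟩
  ext v
  constructor
  · rintro ⟨q, hq, rfl⟩
    have hr := hΨ.2.1.le ⟨MulAut.conj w q, rfl⟩
    have c1 : Commute (Ψ (MulAut.conj w q)) d₁ := Subgroup.mem_centralizer_singleton_iff.1 hr.2
    have cz : Commute (Ψ (MulAut.conj w q)) (d₁ * d₂) := by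
      rw [← hTz]
      exact ((Fischer.commute_conj_iff w q Fi23.z).2
        (Subgroup.mem_centralizer_iff.1 hq _ (Or.inl rfl) : Commute Fi23.z q).symm).map Ψ
    have ca : Commute (Ψ (MulAut.conj w q)) (d₁ * d₃) := by
      rw [← hTa]
      exact ((Fischer.commute_conj_iff w q a₀).2
        (Subgroup.mem_centralizer_iff.1 hq _ (Or.inr rfl) : Commute a₀ q).symm).map Ψ
    refine ⟨hr.1, Subgroup.mem_centralizer_iff.2 ?_⟩
    rintro u (rfl | rfl | rfl)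
    · exact c1.symm.eq
    · have := c1.mul_right cz
      rw [← mul_assoc, hdd, one_mul] at this
      exact this.symm.eq
    · have := c1.mul_right ca
      rw [← mul_assoc, hdd, one_mul] at this
      exact this.symm.eq
  · rintro ⟨hvL, hvC⟩
    have hv := Subgroup.mem_centralizer_iff.1 hvC
    have c1 : Commute v d₁ := (hv d₁ (Or.inl rfl) : Commute d₁ v).symm
    have c2 : Commute v d₂ := (hv d₂ (Or.inr (Or.inl rfl)) : Commute d₂ v).symm
    have c3 : Commute v d₃ := (hv d₃ (Or.inr (Or.inr rfl)) : Commute d₃ v).symm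
    obtain ⟨q, rfl⟩ : v ∈ Ψ.range := hΨ.2.1 ▸ ⟨hvL, Subgroup.mem_centralizer_singleton_iff.2 c1.eq⟩
    refine ⟨w⁻¹ * q * w, Subgroup.mem_centralizer_iff.2 ?_, by simp [mul_assoc]⟩
    have key : ∀ u : GG, Commute (Ψ q) (Ψ (w * u * w⁻¹)) → Commute u (w⁻¹ * q * w) := by
      intro u hu
      have h : Commute q (w * u * w⁻¹) := hΨ.1 (by rw [map_mul Ψ q, map_mul Ψ (w * u * w⁻¹) q]; exact hu.eq)
      have := ((Fischer.commute_conj_iff w⁻¹ _ _).2 h).symm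
      simpa [mul_assoc] using this
    rintro u (rfl | rfl)
    · exact (key _ (hTz ▸ c1.mul_right c2)).eq
    · exact (key _ (hTa ▸ c1.mul_right c3)).eq

end Cfsg.Agent.FischerLocal24
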