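import Cfsg.Agent.Lib.FischerLocal24.Triple
import Cfsg.Agent.Lib.Components.FStar
import Cfsg.Agent.Lib.AutPSU.Outer

/-!
The centraliser in `L` of a product of three commuting transpositions, type M(24).
-/

set_option autoImplicit false
set_option linter.style.haveILetI false

namespace Cfsg.Agent.FischerLocal24

open Subgroup
open Cfsg.Agent.CosetCert Cfsg.Agent.FischerPresented
open Cfsg.Agent.Fischer.Factor (Nb TwinFree NoRel unique_factor)

local notation "GG" => Setup.G CosetData.Fi23A.setup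
local notation "K4" => RigidGraph.He.K4

variable {G : Type*} [Group G] [Finite G] {D : Set G}

theorem card_ringAut_four {F : Type*} [Field F] [Fintype F] (hF : Fintype.card F = 4) :
    Nat.card (F ≃+* F) ≤ 2 := by
  classical
  obtain ⟨u, hu⟩ : ∃ u : F, u ∉ ({0, 1} : Finset F) := by
    by_contra! h
    have := Finset.card_le_card (fun x (_ : x ∈ Finset.univ) => h x)
    rw [Finset.card_univ, hF] at this
    exact absurd (this.trans Finset.card_le_two) (by norm_num)
  simp only [Finset.mem_insert, Finset.mem_singleton, not_or] at hu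
  have hcard : ((Finset.univ \ {0, 1}) : Finset F).card = 2 := by
    rw [Finset.card_sdiff, Finset.inter_univ, Finset.card_univ, hF, Finset.card_pair zero_ne_one]
  refine le_trans (Nat.card_le_card_of_injective (fun τ : F ≃+* F =>
    (⟨τ u, by simp [hu.1, hu.2]⟩ : ((Finset.univ \ {0, 1}) : Finset F))) ?_) (by
      rw [Nat.card_eq_fintype_card, Fintype.card_coe, hcard])
  intro τ τ' h
  have hh : τ u = τ' u := congrArg Subtype.val h
  ext x
  by_cases hx0 : x = 0
  · simp [hx0]
  by_cases hx1 : x = 1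
  · simp [hx1]
  by_cases hxu : x = u
  · rw [hxu, hh]
  -- the fourth element is `u + 1`
  have hsum : x = u + 1 := by
    by_contra hne
    have h2 : (2 : F) = 0 := by
      have h4 : ((4 : ℕ) : F) = 0 := by rw [← hF]; exact FiniteField.cast_card_eq_zero F
      have : (2 : F) * 2 = 0 := by rw [← h4]; norm_num
      rcases mul_eq_zero.1 this with h | h <;> exact h
    have a1 : u + 1 ≠ 0 := fun e => hu.2 (by linear_combination e - h2)
    have a2 : u + 1 ≠ 1 := fun e => hu.1 (by linear_combination e)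
    have a3 : u + 1 ≠ u := fun e => one_ne_zero (by linear_combination e : (1 : F) = 0)
    have hs : ({0, 1, u, u + 1, x} : Finset F).card = 5 := by
      rw [Finset.card_insert_of_notMem, Finset.card_insert_of_notMem, Finset.card_insert_of_notMem,
        Finset.card_pair (Ne.symm hne)] <;>
        simp [Ne.symm hu.1, Ne.symm hu.2, Ne.symm hx0, Ne.symm hx1, Ne.symm hxu, Ne.symm a1, Ne.symm a2,
          Ne.symm a3]
    have := Finset.card_le_univ ({0, 1, u, u + 1, x} : Finset F)
    omega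
  rw [hsum, map_add, map_add, map_one, map_one, hh]

theorem card_aut_psu {F : Type*} [Field F] [Fintype F] (hF : Fintype.card F = 4) :
    Nat.card (MulAut (Cfsg.PSU 6 F 2)) ≤ 6 * Nat.card (Cfsg.PSU 6 F 2) := by
  classical
  have hF' : Fintype.card F = 2 ^ 2 := by rw [hF]; norm_num
  obtain ⟨C⟩ := AutPSU.exists_conj hF'
  obtain ⟨φ, hφ, -, hker⟩ := AutPSU.exists_outer_hom C (n := 6) (by norm_num) hF' (by norm_num)
  have h1 := Subgroup.card_eq_card_quotient_mul_card_subgroup (Cfsg.Inn (Cfsg.PSU 6 F 2))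
  rw [AutPSU.card_inn C (by norm_num) hF'] at h1
  have h2 := Subgroup.card_mul_index φ.ker
  rw [Subgroup.index_ker, MonoidHom.range_eq_top.2 hφ, Subgroup.card_top, hker] at h2
  rw [h1]
  refine Nat.mul_le_mul_right _ ?_
  change Nat.card (Cfsg.Out (Cfsg.PSU 6 F 2)) ≤ 6
  rw [← h2]
  have := card_ringAut_four hF
  norm_num
  omega

set_option maxHeartbeats 1600000 in
theorem triple_main (hp : Cfsg.IsPrimitiveUnderConj Fi23.D) (hD : Cfsg.IsThreeTranspositionGroup D)
    (hprim : Cfsg.IsPrimitiveUnderConj D) (hout : ∀ e ∈ D, e ∉ commutator G)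
    (hidx : (commutator G).index = 2) (h4 : NoRel D 4) (h6 : NoRel D 6)
    (hch : ∀ d ∈ D, ∃ Ψ : GG →* G, IsChart D d Ψ)
    {d₁ d₂ d₃ : G} (h₁ : d₁ ∈ D) (h₂ : d₂ ∈ D) (h₃ : d₃ ∈ D) (h12 : d₁ ≠ d₂) (h13 : d₁ ≠ d₃)
    (h23 : d₂ ≠ d₃) (c12 : Commute d₁ d₂) (c13 : Commute d₁ d₃) (c23 : Commute d₂ d₃)
    (E CL K : Subgroup G) (hE : E = Subgroup.closure ({d₁ * d₂, d₁ * d₃} : Set G))
    (hCL : CL = commutator G ⊓ Subgroup.centralizer ({d₁ * d₂ * d₃} : Set G))
    (hK : K = (Cfsg.generalizedFittingSubgroup ↥CL).map CL.subtype) :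
    Cfsg.IsQuasisimple ↥K ∧ (Subgroup.center ↥K).map K.subtype = E ∧
      K = commutator G ⊓ Subgroup.centralizer (E : Set G) ∧
      (∃ (_ : (E.subgroupOf K).Normal) (F : Type) (_ : Field F) (_ : Fintype F), Fintype.card F = 4 ∧
        Nonempty (↥K ⧸ E.subgroupOf K ≃* Cfsg.PSU 6 F 2)) ∧
      ∃ _ : (K.subgroupOf CL).Normal, Nonempty (↥CL ⧸ K.subgroupOf CL ≃* Equiv.Perm (Fin 3)) ∧ E ≤ CL ∧
        ∃ (_ : (E.subgroupOf CL).Normal) (F : Type) (_ : Field F) (_ : Fintype F), Fintype.card F = 4 ∧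
          Nonempty (↥CL ⧸ E.subgroupOf CL ≃* MulAut (Cfsg.PSU 6 F 2)) := by
  classical
  have := Fi23.order_facts.1
  have hfree : TwinFree D := fun d v hd hs => Fischer.prim_sameComm_trivial hD hprim hd hs
  obtain ⟨Ψ, hΨ⟩ := hch d₁ h₁
  obtain ⟨T, hTinj, hTz, hTa, hTK⟩ := exists_frame_three hp hD hout hidx h₁ ⟨h₂, h12.symm, c12⟩
    ⟨h₃, h13.symm, c13⟩ h23 c23 hΨ
  obtain ⟨K₁, hK₁⟩ : ∃ K₁ : Subgroup G, K₁ = commutator G ⊓ Subgroup.centralizer ({d₁, d₂, d₃} : Set G) :=
    ⟨_, rfl⟩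
  rw [← hK₁] at hTK
  have memK : ∀ x, x ∈ K₁ ↔ x ∈ commutator G ∧ x * d₁ * x⁻¹ = d₁ ∧ x * d₂ * x⁻¹ = d₂ ∧ x * d₃ * x⁻¹ = d₃ :=
    fun x => by
    rw [hK₁, Subgroup.mem_inf, Subgroup.mem_centralizer_iff]
    refine ⟨fun h => ⟨h.1, by rw [← h.2 _ (Or.inl rfl), mul_inv_cancel_right], by
      rw [← h.2 _ (Or.inr (Or.inl rfl)), mul_inv_cancel_right], by
      rw [← h.2 _ (Or.inr (Or.inr rfl)), mul_inv_cancel_right]⟩, ?_⟩
    rintro ⟨hL, e1, e2, e3⟩
    refine ⟨hL, ?_⟩
    rintro y (rfl | rfl | rfl)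
    · exact (mul_inv_eq_iff_eq_mul.1 e1).symm
    · exact (mul_inv_eq_iff_eq_mul.1 e2).symm
    · exact (mul_inv_eq_iff_eq_mul.1 e3).symm
  -- fixing both products fixes the three transpositions
  have hfix : ∀ x : G, Commute x (d₁ * d₂) → Commute x (d₁ * d₃) →
      x * d₁ * x⁻¹ = d₁ ∧ x * d₂ * x⁻¹ = d₂ ∧ x * d₃ * x⁻¹ = d₃ := by
    intro x e2 e3
    rcases fix_or_swap hD hfree h₁ h₂ h12 c12 (Fischer.conj_eq_self_of_commute e2) with h | h
    · rcases fix_or_swap hD hfree h₁ h₃ h13 c13 (Fischer.conj_eq_self_of_commute e3) with h' | h'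
      · exact ⟨h.1, h.2, h'.2⟩
      · exact absurd (h.1.symm.trans h'.1) h13
    · rcases fix_or_swap hD hfree h₁ h₃ h13 c13 (Fischer.conj_eq_self_of_commute e3) with h' | h'
      · exact absurd (h'.1.symm.trans h.1) h12
      · exact absurd (h.1.symm.trans h'.1) h23
  have hKE : K₁ = commutator G ⊓ Subgroup.centralizer (E : Set G) := by
    rw [hE, Subgroup.centralizer_closure]
    ext x
    rw [memK, Subgroup.mem_inf, Subgroup.mem_centralizer_iff]
    constructor
    · rintro ⟨hL, e1, e2, e3⟩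
      have c1 : Commute x d₁ := mul_inv_eq_iff_eq_mul.1 e1
      have c2 : Commute x d₂ := mul_inv_eq_iff_eq_mul.1 e2
      have c3 : Commute x d₃ := mul_inv_eq_iff_eq_mul.1 e3
      refine ⟨hL, ?_⟩
      rintro y (rfl | rfl)
      · exact (c1.mul_right c2).symm.eq
      · exact (c1.mul_right c3).symm.eq
    · rintro ⟨hL, h⟩
      exact ⟨hL, hfix x (h _ (Or.inl rfl) : Commute (d₁ * d₂) x).symm
        (h _ (Or.inr rfl) : Commute (d₁ * d₃) x).symm⟩
  obtain ⟨hc0, hq0, ⟨eq0⟩⟩ := FischerUnique23.pair_model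
  obtain ⟨e, he⟩ : ∃ e : FischerUnique23.K0 ≃* K₁, ∀ x : FischerUnique23.K0, (e x : G) = T x :=
    ⟨(Subgroup.equivMapOfInjective FischerUnique23.K0 T hTinj).trans (MulEquiv.subgroupCongr hTK), fun _ => rfl⟩
  have hec : (Subgroup.center FischerUnique23.K0).map e.toMonoidHom = Subgroup.center ↥K₁ := by
    ext x
    obtain ⟨w, rfl⟩ := e.surjective x
    rw [Subgroup.mem_map_equiv, e.symm_apply_apply, Subgroup.mem_center_iff, Subgroup.mem_center_iff]
    exact ⟨fun h k => by obtain ⟨k, rfl⟩ := e.surjective k; rw [← map_mul, ← map_mul, h k],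
      fun h k => e.injective (by rw [map_mul, map_mul, h (e k)])⟩
  have hq : Cfsg.IsQuasisimple ↥K₁ := ClassBasic.isQuasisimple_of_mulEquiv e hq0
  have hcen : (Subgroup.center ↥K₁).map K₁.subtype = E := by
    have hcomp : K₁.subtype.comp e.toMonoidHom = T.comp FischerUnique23.K0.subtype := MonoidHom.ext he
    rw [← hec, Subgroup.map_map, hcomp, ← Subgroup.map_map, hc0, MonoidHom.map_closure, hE, Set.image_pair,
      hTz, hTa]
  have memC : ∀ x, x ∈ CL ↔ x ∈ commutator G ∧ Commute x (d₁ * d₂ * d₃) := fun x => by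
    rw [hCL, Subgroup.mem_inf, Subgroup.mem_centralizer_singleton_iff]; rfl
  have hKC : K₁ ≤ CL := fun x hx => by
    obtain ⟨hL, e1, e2, e3⟩ := (memK x).1 hx
    have c1 : Commute x d₁ := mul_inv_eq_iff_eq_mul.1 e1
    have c2 : Commute x d₂ := mul_inv_eq_iff_eq_mul.1 e2
    have c3 : Commute x d₃ := mul_inv_eq_iff_eq_mul.1 e3
    exact (memC x).2 ⟨hL, (c1.mul_right c2).mul_right c3⟩
  -- the permutation of the three
  let f : Fin 3 → G := ![d₁, d₂, d₃]
  have finj : Function.Injective f := by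
    intro i k h
    fin_cases i <;> fin_cases k <;> simp_all [f]
  have hperm : ∀ x : CL, ∀ i, ∃ k, (x : G) * f i * (x : G)⁻¹ = f k := by
    intro x i
    have hx := ((memC x).1 x.2).2
    have hcc : ∀ u v : G, Commute u v → Commute ((x : G) * u * (x : G)⁻¹) ((x : G) * v * (x : G)⁻¹) :=
      fun u v h => (Fischer.commute_conj_iff (x : G) u v).2 h
    have hinj' : Function.Injective fun u : G => (x : G) * u * (x : G)⁻¹ :=
      fun u v h => mul_left_cancel (mul_right_cancel h)
    have hu := unique_factor hD.1 h4 h6 3 le_rfl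
      ([d₁, d₂, d₃].map fun u => (x : G) * u * (x : G)⁻¹) [d₁, d₂, d₃]
      ((show [d₁, d₂, d₃].Nodup by simp [h12, h13, h23]).map hinj') (by simp [h12, h13, h23]) rfl rfl
      (by simp [hD.2.1 (x : G) _ h₁, hD.2.1 (x : G) _ h₂, hD.2.1 (x : G) _ h₃]) (by simp [h₁, h₂, h₃])
      (by
        intro a ha b hb
        rw [List.mem_map] at ha hb
        obtain ⟨a, ha, rfl⟩ := ha
        obtain ⟨b, hb, rfl⟩ := hb
        refine hcc a b ?_
        simp only [List.mem_cons, List.not_mem_nil, or_false] at ha hb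
        rcases ha with rfl | rfl | rfl <;> rcases hb with rfl | rfl | rfl <;>
          first | exact Commute.refl _ | assumption | exact c12.symm | exact c13.symm | exact c23.symm)
      (by simp [c12, c12.symm, c13, c13.symm, c23, c23.symm])
      (by
        simp only [List.map_cons, List.map_nil, List.prod_cons, List.prod_nil, mul_one]
        calc (x : G) * d₁ * (x : G)⁻¹ * ((x : G) * d₂ * (x : G)⁻¹ * ((x : G) * d₃ * (x : G)⁻¹))
            = (x : G) * (d₁ * d₂ * d₃) * (x : G)⁻¹ := by group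
          _ = _ := by rw [Fischer.conj_eq_self_of_commute hx, mul_assoc])
      ((x : G) * f i * (x : G)⁻¹)
    have hm := hu.1 (List.mem_map.2 ⟨f i, by fin_cases i <;> simp [f], rfl⟩)
    simp only [List.mem_cons, List.not_mem_nil, or_false] at hm
    rcases hm with h | h | h
    exacts [⟨0, h⟩, ⟨1, h⟩, ⟨2, h⟩]
  choose pf hpf using hperm
  have pinj : ∀ x, Function.Injective (pf x) := fun x i k h => by
    have h' : (x : G) * f i * (x : G)⁻¹ = (x : G) * f k * (x : G)⁻¹ := by rw [hpf, hpf, h]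
    exact finj (mul_left_cancel (mul_right_cancel h'))
  let π : CL →* Equiv.Perm (Fin 3) := MonoidHom.mk'
    (fun x => Equiv.ofBijective (pf x) (Finite.injective_iff_bijective.1 (pinj x))) fun a b => by
      refine Equiv.ext fun i => finj ?_
      show f (pf (a * b) i) = f (pf a (pf b i))
      rw [← hpf, ← hpf, ← hpf, Subgroup.coe_mul]
      group
  have hker : π.ker = K₁.subgroupOf CL := by
    ext x
    rw [MonoidHom.mem_ker, Subgroup.mem_subgroupOf, memK]
    constructor
    · intro h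
      have hi : ∀ i, (x : G) * f i * (x : G)⁻¹ = f i := fun i => by
        rw [hpf]; exact congrArg f (Equiv.congr_fun h i)
      exact ⟨((memC x).1 x.2).1, hi 0, hi 1, hi 2⟩
    · rintro ⟨-, e1, e2, e3⟩
      refine Equiv.ext fun i => finj ?_
      show f (pf x i) = f i
      rw [← hpf]
      fin_cases i <;> assumption
  have hswap : ∀ i k : Fin 3, i ≠ k → Equiv.swap i k ∈ π.range := by
    intro i k hik
    obtain ⟨l, hli, hlk⟩ : ∃ l : Fin 3, l ≠ i ∧ l ≠ k := by revert i k; decide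
    have hfD : ∀ i, f i ∈ D := fun i => by fin_cases i <;> simp [f, h₁, h₂, h₃]
    have hfc : ∀ i k, Commute (f i) (f k) := fun i k => by
      fin_cases i <;> fin_cases k <;> simp [f, c12, c12.symm, c13, c13.symm, c23, c23.symm]
    obtain ⟨Ψ', hΨ'⟩ := hch (f i) (hfD i)
    obtain ⟨s, hsL, s1, s2, s3⟩ := exists_swap hp hD hprim hout hidx (hfD i) (hfD k) (hfD l)
      (finj.ne hik) (finj.ne hli.symm) (finj.ne hlk.symm) (hfc i k) (hfc i l) (hfc k l) hΨ'
    have hj : ∀ u, s * f u * s⁻¹ = f (Equiv.swap i k u) := by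
      intro u
      obtain rfl | rfl | rfl : u = i ∨ u = k ∨ u = l :=
        (by decide : ∀ i k l u : Fin 3, i ≠ k → l ≠ i → l ≠ k → u = i ∨ u = k ∨ u = l) i k l u hik hli hlk
      · rw [Equiv.swap_apply_left]; exact s1
      · rw [Equiv.swap_apply_right]; exact s2
      · rw [Equiv.swap_apply_of_ne_of_ne hli hlk]; exact s3
    have hsC : s ∈ CL := by
      refine (memC s).2 ⟨hsL, mul_inv_eq_iff_eq_mul.1 ?_⟩
      have e : s * (d₁ * d₂ * d₃) * s⁻¹ = (s * f 0 * s⁻¹) * (s * f 1 * s⁻¹) * (s * f 2 * s⁻¹) := by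
        simp only [f, Matrix.cons_val_zero, Matrix.cons_val_one, Matrix.cons_val]; group
      rw [e, hj, hj, hj]
      have hperm3 : ∀ a b c : Fin 3, a ≠ b → a ≠ c → b ≠ c → f a * f b * f c = d₁ * d₂ * d₃ := by
        intro a b c
        fin_cases a <;> fin_cases b <;> fin_cases c <;> simp [f] <;>
          simp [mul_assoc, c12.eq, c12.left_comm, c13.eq, c13.left_comm, c23.eq, c23.left_comm]
      exact hperm3 _ _ _ ((Equiv.injective _).ne (by decide)) ((Equiv.injective _).ne (by decide))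
        ((Equiv.injective _).ne (by decide))
    refine ⟨⟨s, hsC⟩, Equiv.ext fun u => finj ?_⟩
    show f (pf ⟨s, hsC⟩ u) = _
    rw [← hpf]
    exact hj u
  have hsurj : Function.Surjective π := by
    rw [← MonoidHom.range_eq_top, eq_top_iff, ← Equiv.Perm.closure_isSwap, Subgroup.closure_le]
    rintro σ ⟨i, k, hik, rfl⟩
    exact hswap i k hik
  -- the generalised Fitting subgroup
  set K' := K₁.subgroupOf CL with hK'
  haveI hK'n : K'.Normal := hker ▸ π.normal_ker
  have hcomp : Cfsg.IsComponent K' := ⟨Subgroup.Normal.isSubnormal hK'n,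
    ClassBasic.isQuasisimple_of_mulEquiv (Subgroup.subgroupOfEquivOfLe hKC).symm hq⟩
  have hlay : Cfsg.layer ↥CL = K' := by
    refine le_antisymm (Components.layer_le_iff.2 fun L hL => ?_) (Components.component_le_layer hcomp)
    have hsolv : Group.IsSolvable (Equiv.Perm (Fin 3)) := by
      have h1 : commutator (Equiv.Perm (Fin 3)) ≤ alternatingGroup (Fin 3) := by
        rw [_root_.commutator_def, Subgroup.commutator_le]
        intro a _ b _
        rw [Equiv.Perm.mem_alternatingGroup, map_commutatorElement, commutatorElement_eq_one_iff_mul_comm,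
          mul_comm]
      have hc3 : IsCyclic (alternatingGroup (Fin 3)) := by
        haveI : Fact (Nat.Prime 3) := ⟨by norm_num⟩
        exact isCyclic_of_prime_card (p := 3) (by rw [Nat.card_eq_fintype_card]; decide)
      refine ⟨⟨2, ?_⟩⟩
      rw [derivedSeries_succ, derivedSeries_succ, derivedSeries_zero, ← _root_.commutator_def, eq_bot_iff]
      refine le_trans (Subgroup.commutator_mono h1 h1) ?_
      rw [Subgroup.commutator_le]
      intro a ha b hb
      rw [Subgroup.mem_bot, commutatorElement_eq_one_iff_mul_comm]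
      exact congrArg Subtype.val (hc3.isMulCommutative.1.1 (⟨a, ha⟩ : alternatingGroup (Fin 3)) ⟨b, hb⟩)
    have hL0 : L.map π = ⊥ := by
      have h1 : ⁅L.map π, L.map π⁆ = L.map π := by
        rw [← Subgroup.map_commutator, Components.component_commutator_eq hL]
      obtain ⟨m, hm⟩ := hsolv.1
      have hle : ∀ t, L.map π ≤ derivedSeries (Equiv.Perm (Fin 3)) t := by
        intro t
        induction t with
        | zero => exact le_top
        | succ t ih => rw [derivedSeries_succ, ← h1]; exact Subgroup.commutator_mono ih ih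
      exact le_bot_iff.1 (hm ▸ hle m)
    rw [← hker]
    exact (Subgroup.map_eq_bot_iff L).1 hL0
  have hjE : ∀ x ∈ E, x ∈ K₁ := fun x hx => by
    rw [← hcen] at hx
    obtain ⟨w, -, rfl⟩ := hx
    exact w.2
  have hcentr : ∀ x ∈ CL, (∀ k ∈ K₁, Commute x k) → x ∈ K₁ := by
    intro x hx hk
    rw [hKE]
    exact ⟨((memC x).1 hx).1, Subgroup.mem_centralizer_iff.2 fun y hy => (hk y (hjE y hy)).symm.eq⟩
  have hfit : Cfsg.fittingSubgroup ↥CL ≤ K' := by
    intro x hx
    refine hcentr x x.2 fun k hk => ?_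
    have h := Subgroup.mem_centralizer_iff.1 (Components.fitting_le_centralizer_layer hx) ⟨k, hKC hk⟩
      (by rw [hlay]; exact hk)
    exact (congrArg Subtype.val h).symm
  have hKeq : K = K₁ := by
    rw [hK, Cfsg.generalizedFittingSubgroup, hlay, sup_eq_left.2 hfit, hK', Subgroup.subgroupOf_map_subtype,
      inf_eq_left.2 hKC]
  rw [hKeq]
  have hEK : E.subgroupOf K₁ = Subgroup.center ↥K₁ := by
    rw [← hcen, Subgroup.subgroupOf, Subgroup.comap_map_eq_self_of_injective K₁.subtype_injective]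
  have hEn1 : (E.subgroupOf K₁).Normal := hEK ▸ inferInstance
  obtain ⟨eq⟩ : Nonempty (↥K₁ ⧸ E.subgroupOf K₁ ≃* Cfsg.PSU 6 K4 2) :=
    ⟨(QuotientGroup.quotientMulEquivOfEq hEK).trans ((QuotientGroup.congr _ _ e hec).symm.trans eq0)⟩
  refine ⟨hq, hcen, hKE, ⟨hEn1, K4, inferInstance, inferInstance, RigidGraph.He.K4.card_K4, ⟨eq⟩⟩, hK'n,
    ⟨(QuotientGroup.quotientMulEquivOfEq hker.symm).trans (QuotientGroup.quotientKerEquivOfSurjective π hsurj)⟩,
    fun x hx => hKC (hjE x hx), ?_⟩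
  set Zs := E.subgroupOf CL with hZs
  haveI hn : Zs.Normal := by
    refine ⟨fun z hz c => ?_⟩
    rw [hZs, Subgroup.mem_subgroupOf, ← hcen] at hz ⊢
    obtain ⟨w, hw, ew⟩ := hz
    refine ⟨⟨(c : G) * w * (c : G)⁻¹, hK'n.conj_mem ⟨w, hKC w.2⟩ w.2 c⟩, ?_, ?_⟩
    · rw [SetLike.mem_coe, Subgroup.mem_center_iff]
      intro k
      have hk : (c : G)⁻¹ * k * (c : G) ∈ K₁ := by
        have h0 := Subgroup.mem_subgroupOf.1 (hK'n.conj_mem ⟨(k : G), hKC k.2⟩ k.2 c⁻¹)
        simpa only [Subgroup.coe_mul, Subgroup.coe_inv, inv_inv] using h0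
      have h := congrArg Subtype.val (Subgroup.mem_center_iff.1 hw ⟨_, hk⟩)
      simp only [Subgroup.coe_mul] at h
      refine Subtype.ext ?_
      simp only [Subgroup.coe_mul]
      calc (k : G) * ((c : G) * w * (c : G)⁻¹) = (c : G) * (((c : G)⁻¹ * k * c) * w) * (c : G)⁻¹ := by group
        _ = (c : G) * ((w : G) * ((c : G)⁻¹ * k * c)) * (c : G)⁻¹ := by rw [h]
        _ = _ := by group
    · show (c : G) * w * (c : G)⁻¹ = _
      rw [show (w : G) = z from ew]
      rfl
  refine ⟨hn, K4, inferInstance, inferInstance, RigidGraph.He.K4.card_K4, ?_⟩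
  set ZM : Subgroup ↥K' := Zs.subgroupOf K' with hZM
  haveI : ZM.Normal := inferInstance
  obtain ⟨θ⟩ : Nonempty (↥K' ⧸ ZM ≃* Cfsg.PSU 6 K4 2) := by
    refine ⟨(QuotientGroup.congr ZM (E.subgroupOf K₁) (Subgroup.subgroupOfEquivOfLe hKC) ?_).trans eq⟩
    ext x
    obtain ⟨w, rfl⟩ := (Subgroup.subgroupOfEquivOfLe hKC).surjective x
    exact ⟨fun ⟨v, hv, e⟩ => (Subgroup.subgroupOfEquivOfLe hKC).injective e ▸ hv, fun h => ⟨w, h, rfl⟩⟩
  let act : ↥CL →* MulAut (↥K' ⧸ ZM) :=
    { toFun := fun c => QuotientGroup.congr ZM ZM (MulAut.conjNormal c) (by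
        ext x
        rw [Subgroup.mem_map]
        constructor
        · rintro ⟨y, hy, rfl⟩
          rw [hZM, Subgroup.mem_subgroupOf] at hy ⊢
          exact hn.conj_mem _ hy c
        · intro h
          refine ⟨MulAut.conjNormal c⁻¹ x, ?_, ?_⟩
          · rw [hZM, Subgroup.mem_subgroupOf] at h ⊢
            rw [MulAut.conjNormal_apply]
            exact hn.conj_mem _ h c⁻¹
          · show MulAut.conjNormal c (MulAut.conjNormal c⁻¹ x) = x
            rw [← MulAut.mul_apply, ← map_mul, mul_inv_cancel, map_one, MulAut.one_apply])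
      map_one' := by
        ext x
        obtain ⟨x, rfl⟩ := QuotientGroup.mk'_surjective ZM x
        simp [QuotientGroup.congr_mk]
      map_mul' := fun a b => by
        ext x
        obtain ⟨x, rfl⟩ := QuotientGroup.mk'_surjective ZM x
        simp [QuotientGroup.congr_mk] }
  let act2 : ↥CL →* MulAut (Cfsg.PSU 6 K4 2) := (MulAut.congr θ).toMonoidHom.comp act
  have hle : Zs ≤ act2.ker := by
    intro c hc
    rw [MonoidHom.mem_ker]
    refine (map_eq_one_iff _ (MulAut.congr θ).injective).2 ?_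
    ext x
    obtain ⟨x, rfl⟩ := QuotientGroup.mk'_surjective ZM x
    show QuotientGroup.mk (MulAut.conjNormal c x) = QuotientGroup.mk x
    congr 1
    apply Subtype.ext
    apply Subtype.ext
    rw [MulAut.conjNormal_apply]
    simp only [Subgroup.coe_mul, Subgroup.coe_inv]
    rw [hZs, Subgroup.mem_subgroupOf, ← hcen] at hc
    obtain ⟨z, hz, e⟩ := hc
    rw [← e, mul_inv_eq_iff_eq_mul]
    exact (congrArg Subtype.val (Subgroup.mem_center_iff.1 hz ⟨((x : ↥CL) : G), x.2⟩)).symm
  have hge : act2.ker ≤ Zs := by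
    intro c hc
    rw [MonoidHom.mem_ker] at hc
    have h := (map_eq_one_iff _ (MulAut.congr θ).injective).1 hc
    have hmod : ∀ k ∈ K₁, ((c : G) * k * (c : G)⁻¹ * k⁻¹) ∈ (Subgroup.center ↥K₁).map K₁.subtype := by
      intro k hk
      have hx := congrArg (fun φ : MulAut (↥K' ⧸ ZM) => φ (QuotientGroup.mk ⟨⟨k⁻¹, hKC (inv_mem hk)⟩, inv_mem hk⟩)) h
      change QuotientGroup.mk (MulAut.conjNormal c _) = QuotientGroup.mk _ at hx
      rw [QuotientGroup.eq] at hx
      rw [hcen]
      have := Subgroup.mem_subgroupOf.1 (Subgroup.mem_subgroupOf.1 hx)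
      simpa [mul_assoc] using this
    have hcK := commute_of_mod_center hq.1 hmod
    have hcin : (c : G) ∈ K₁ := hcentr _ c.2 hcK
    rw [hZs, Subgroup.mem_subgroupOf, ← hcen]
    exact ⟨⟨c, hcin⟩, Subgroup.mem_center_iff.2 fun k => Subtype.ext (hcK k k.2).symm.eq, rfl⟩
  have hinj2 : Function.Injective (QuotientGroup.lift Zs act2 hle) := by
    rw [← MonoidHom.ker_eq_bot_iff, eq_bot_iff]
    intro q hq
    obtain ⟨q, rfl⟩ := QuotientGroup.mk'_surjective Zs q
    rw [MonoidHom.mem_ker] at hq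
    change act2 q = 1 at hq
    exact Subgroup.mem_bot.2 ((QuotientGroup.eq_one_iff q).2 (hge (MonoidHom.mem_ker.2 hq)))
  have hcard : Nat.card (↥CL ⧸ Zs) = 6 * Nat.card (Cfsg.PSU 6 K4 2) := by
    have h1 := Subgroup.card_eq_card_quotient_mul_card_subgroup Zs
    have h2 := Subgroup.card_eq_card_quotient_mul_card_subgroup K'
    have h3 : Nat.card (↥CL ⧸ K') = 6 := by
      rw [Nat.card_congr ((QuotientGroup.quotientMulEquivOfEq hker.symm).trans
        (QuotientGroup.quotientKerEquivOfSurjective π hsurj)).toEquiv, Nat.card_eq_fintype_card,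
        Fintype.card_perm, Fintype.card_fin]
      rfl
    have h4 := Subgroup.card_eq_card_quotient_mul_card_subgroup ZM
    rw [Nat.card_congr θ.toEquiv, Nat.card_congr (Subgroup.subgroupOfEquivOfLe
      (show Zs ≤ K' from fun x hx => hjE _ hx)).toEquiv] at h4
    rw [h3, h4, ← mul_assoc, h1] at h2
    exact Nat.eq_of_mul_eq_mul_right Nat.card_pos h2
  exact ⟨MulEquiv.ofBijective _ (hinj2.bijective_of_nat_card_le
    (hcard.symm ▸ card_aut_psu RigidGraph.He.K4.card_K4))⟩

end Cfsg.Agent.FischerLocal24
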